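import Mathlib

/-!
# Shapes of the certificates for the elements of order 3 of `Fi₂₄`
-/

set_option autoImplicit false
set_option linter.all false

namespace Cfsg.Agent.Lib.F3C

/-- A move: a word, a translation and the images of the basis. -/
structure Mv where
  g : List ℕ
  z : ℕ
  m : List ℕ

/-- A root: a code, a conjugating word, and the index of a representative (5: not of order 3). -/
structure Rt where
  r : ℕ
  g : List ℕ
  i : ℕ

end Cfsg.Agent.Lib.F3C
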